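import Cfsg.Agent.CPOutside.Basic
import Cfsg.Agent.CITThreePrime.LocalBound
import Cfsg.Agent.PSL34.Recognise

/-!
A group with 2-group involution centralisers and a quotient `PSL₃(4)` by a normal 2-subgroup has
trivial kernel.
-/

set_option autoImplicit false

namespace CfsgLib.EPPO

open CfsgLib.CITThreePrime

universe u v

/-- Two commuting elements of order three generating a non-cyclic subgroup of `PSL₃(4)`. -/
theorem exists_pair_psl_three_four {F : Type v} [Field F] [Fintype F] (hF : Fintype.card F = 4) :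
    ∃ a b : Matrix.ProjectiveSpecialLinearGroup (Fin 3) F, a ^ 3 = 1 ∧ b ^ 3 = 1 ∧ Commute a b ∧
      (∀ i : ℕ, a * b ^ i ≠ 1) ∧ ∀ j, 0 < j → j < 3 → b ^ j ≠ 1 := by
  classical
  obtain ⟨w, -, hw⟩ : ∃ w ∈ (Finset.univ : Finset F), w ∉ ({0, 1} : Finset F) :=
    Finset.exists_mem_notMem_of_card_lt_card (lt_of_le_of_lt Finset.card_le_two (by
      rw [Finset.card_univ, hF]; norm_num))
  simp only [Finset.mem_insert, Finset.mem_singleton, not_or] at hw
  have hw3 : w ^ 3 = 1 := by
    have := FiniteField.pow_card_sub_one_eq_one w hw.1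
    rwa [hF] at this
  have hww : w ^ 2 ≠ 1 := fun h => hw.2 (by
    calc w = w ^ 3 * (w ^ 2)⁻¹ := by rw [pow_succ w 2]; field_simp
      _ = 1 := by rw [hw3, h, inv_one, one_mul])
  let d : Matrix.SpecialLinearGroup (Fin 3) F :=
    ⟨!![1, 0, 0; 0, w, 0; 0, 0, w ^ 2], by rw [Matrix.det_fin_three]; simp; linear_combination hw3⟩
  let p : Matrix.SpecialLinearGroup (Fin 3) F :=
    ⟨!![0, 1, 0; 0, 0, 1; 1, 0, 0], by rw [Matrix.det_fin_three]; simp⟩
  let s : Matrix.SpecialLinearGroup (Fin 3) F :=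
    ⟨!![w, 0, 0; 0, w, 0; 0, 0, w], by rw [Matrix.det_fin_three]; simp; linear_combination hw3⟩
  let π := QuotientGroup.mk' (Subgroup.center (Matrix.SpecialLinearGroup (Fin 3) F))
  have hsc : s ∈ Subgroup.center (Matrix.SpecialLinearGroup (Fin 3) F) := by
    refine Matrix.SpecialLinearGroup.mem_center_iff.2 ⟨w, by simpa using hw3, ?_⟩
    ext i j
    fin_cases i <;> fin_cases j <;> simp [s, Matrix.scalar_apply]
  have hcen : ∀ g : Matrix.SpecialLinearGroup (Fin 3) F, π g = 1 →
      g.1 0 1 = 0 ∧ g.1 0 0 = g.1 1 1 := by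
    intro g hg
    obtain ⟨r, -, hr⟩ := Matrix.SpecialLinearGroup.mem_center_iff.1 ((QuotientGroup.eq_one_iff g).1 hg)
    rw [← hr]
    simp [Matrix.scalar_apply]
  have hd : ∀ i : ℕ, (d ^ i).1 = !![1, 0, 0; 0, w ^ i, 0; 0, 0, (w ^ 2) ^ i] := by
    intro i
    induction i with
    | zero =>
      ext a b; fin_cases a <;> fin_cases b <;> simp
    | succ i ih =>
      rw [pow_succ, Matrix.SpecialLinearGroup.coe_mul, ih]
      ext a b; fin_cases a <;> fin_cases b <;>
        simp [d, Matrix.mul_apply, Fin.sum_univ_three, pow_succ]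
  refine ⟨π p, π d, ?_, ?_, ?_, fun i hi => ?_, fun j hj0 hj3 hj => ?_⟩
  · rw [← map_pow]
    refine (congrArg π ?_).trans (map_one π)
    refine Subtype.ext ?_
    rw [pow_succ, pow_two, Matrix.SpecialLinearGroup.coe_mul, Matrix.SpecialLinearGroup.coe_mul]
    ext a b; fin_cases a <;> fin_cases b <;> simp [p, Matrix.mul_apply, Fin.sum_univ_three]
  · rw [← map_pow]
    refine (congrArg π ?_).trans (map_one π)
    refine Subtype.ext ?_
    rw [hd, show (w ^ 2) ^ 3 = 1 by rw [← pow_mul, mul_comm, pow_mul, hw3, one_pow], hw3]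
    ext a b; fin_cases a <;> fin_cases b <;> simp
  · show π p * π d = π d * π p
    have h1 : p * d = s * (d * p) := by
      refine Subtype.ext ?_
      rw [Matrix.SpecialLinearGroup.coe_mul, Matrix.SpecialLinearGroup.coe_mul,
        Matrix.SpecialLinearGroup.coe_mul]
      ext a b
      fin_cases a <;> fin_cases b <;> simp [p, d, s, Matrix.mul_apply, Fin.sum_univ_three]
      all_goals first | rfl | linear_combination hw3 | linear_combination -hw3 | ring
    rw [← map_mul, ← map_mul, h1, map_mul, show π s = 1 from (QuotientGroup.eq_one_iff s).2 hsc,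
      one_mul]
  · rw [← map_pow, ← map_mul] at hi
    have h1 := (hcen _ hi).1
    rw [Matrix.SpecialLinearGroup.coe_mul, hd] at h1
    simp [p, Matrix.mul_apply, Fin.sum_univ_three] at h1
    exact hw.1 h1.1
  · rw [← map_pow] at hj
    have h1 := (hcen _ hj).2
    rw [hd] at h1
    simp at h1
    obtain rfl | rfl : j = 1 ∨ j = 2 := by omega
    · exact hw.2 (by simpa using h1.symm)
    · exact hww h1.symm

variable {G : Type u} [Group G] [Finite G]

theorem eq_bot_of_quotient_psl_three_four (h : InvCentTwo G) (Q : Subgroup G) [Q.Normal]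
    (hQ : IsPGroup 2 Q) {F : Type v} [Field F] [Fintype F] (hF : Fintype.card F = 4)
    (e : G ⧸ Q ≃* Matrix.ProjectiveSpecialLinearGroup (Fin 3) F) : Q = ⊥ := by
  classical
  haveI : Fact (Nat.Prime 2) := ⟨Nat.prime_two⟩
  by_contra hQ1
  set V := omegaZ Q
  have hVn : V.Normal := inferInstance
  letI : CommGroup V :=
    { (inferInstance : Group V) with
      mul_comm := fun a b => Subtype.ext (Subgroup.mem_centralizer_iff.1 b.2.2.1 a a.2.1) }
  let c : G →* MulAut V := MulAut.conjNormal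
  have hker : Q ≤ c.ker := fun q hq => MonoidHom.mem_ker.2 (MulEquiv.ext fun v => Subtype.ext (by
    show (MulAut.conjNormal q v : G) = (v : G)
    rw [MulAut.conjNormal_apply, Subgroup.mem_centralizer_iff.1 v.2.2.1 q hq, mul_inv_cancel_right]))
  let φ : G ⧸ Q →* MulAut V := QuotientGroup.lift Q c hker
  obtain ⟨a, b, ha, hb, hab, hne, hne'⟩ := exists_pair_psl_three_four hF
  let f : Matrix.ProjectiveSpecialLinearGroup (Fin 3) F →* MulAut V := φ.comp e.symm.toMonoidHom
  have hfix : ∀ x, x ^ 3 = 1 → x ≠ 1 → ∀ v : V, f x v = v → v = 1 := by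
    intro x hx hx1 v hv
    by_contra hv1
    obtain ⟨g, hg⟩ := QuotientGroup.mk'_surjective Q (e.symm x)
    have hfg : f x = c g := by
      show φ (e.symm x) = c g
      rw [← hg]
      rfl
    rw [hfg] at hv
    have hcomm : Commute (v : G) g := by
      have h1 : g * (v : G) * g⁻¹ = v := congrArg Subtype.val hv
      exact (mul_inv_eq_iff_eq_mul.1 h1).symm
    have hv2 : orderOf (v : G) = 2 ^ 1 := by
      rw [pow_one]
      exact orderOf_eq_prime (by rw [sq]; exact v.2.2.2) fun e1 => hv1 (Subtype.ext e1)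
    obtain ⟨k, hk⟩ := h.orderOf_of_commute hv2 (fun e1 => hv1 (Subtype.ext e1)) hcomm
    haveI : Fact (Nat.Prime 3) := ⟨Nat.prime_three⟩
    have h3 : orderOf (e.symm x) = 3 := by rw [MulEquiv.orderOf_eq, orderOf_eq_prime hx hx1]
    have h4 : 3 ∣ 2 ^ k := hk ▸ h3 ▸ hg ▸ orderOf_map_dvd (QuotientGroup.mk' Q) g
    have := (Nat.prime_dvd_prime_iff_eq Nat.prime_three Nat.prime_two).1 (Nat.prime_three.dvd_of_dvd_pow h4)
    omega
  have hbi : ∀ i : ℕ, (b ^ i) ^ 3 = 1 := fun i => by rw [← pow_mul, mul_comm, pow_mul, hb, one_pow]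
  refine omegaZ_ne_bot hQ hQ1 ((Subgroup.eq_bot_iff_forall _).2 fun v hv => ?_)
  have h3 := CPOutside.pow_eq_one_of_pair (f a) (f b) (by rw [← map_pow, ha, map_one])
    (by rw [← map_pow, hb, map_one]) (hab.map f)
    (fun i _ w hw => hfix (a * b ^ i) (by rw [(hab.pow_right i).mul_pow, ha, hbi, one_mul]) (hne i) w
      (by rwa [map_mul, map_pow]))
    (fun j hj hj3 w hw => hfix (b ^ j) (hbi j) (hne' j hj hj3) w (by rwa [map_pow]))
    (⟨v, hv⟩ : V)
  have h3' : v ^ 3 = 1 := congrArg Subtype.val h3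
  calc v = v ^ 3 := by rw [pow_succ, sq, hv.2.2, one_mul]
    _ = 1 := h3'

end CfsgLib.EPPO
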