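import Cfsg.Agent.EPPO.Arith
import Cfsg.Agent.CIT.TorusOrders
import Cfsg.Agent.PrimeGraphPSLTwo.Model
import Cfsg.Agent.CITThreePrime.PrimeGraph
import Cfsg.Agent.PSL34.Recognise

/-!
`SL₂(2ⁿ)`, `PSL₂(p)` for Fermat and Mersenne primes, and Suzuki groups with all elements of
prime power order.
-/

set_option autoImplicit false

namespace CfsgLib.EPPO

universe u

/-- Every non-identity element has prime power order. -/
def AllPrimePow (G : Type u) [Group G] : Prop := ∀ g : G, g ≠ 1 → IsPrimePow (orderOf g)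

theorem AllPrimePow.of_injective {G : Type u} [Group G] {H : Type*} [Group H] (h : AllPrimePow G)
    (f : H →* G) (hf : Function.Injective f) : ∀ g : H, g ≠ 1 → IsPrimePow (orderOf g) := fun g hg => by
  rw [← orderOf_injective f hf g]
  exact h _ fun e => hg (hf (e.trans f.map_one.symm))

theorem isPrimePow_orderOf {G : Type u} [Group G] (h : AllPrimePow G) {g : G} {n : ℕ}
    (hg : orderOf g = n) (hn : 1 < n) : IsPrimePow n :=
  hg ▸ h g fun e => by rw [e, orderOf_one] at hg; omega

theorem card_le_of_primes {N k : ℕ} (S : Finset ℕ) (hS : S.card ≤ k)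
    (h : ∀ p : ℕ, p.Prime → p ∣ N → p ∈ S) : N.primeFactors.card ≤ k :=
  (Finset.card_le_card fun p hp =>
    h p (Nat.prime_of_mem_primeFactors hp) (Nat.dvd_of_mem_primeFactors hp)).trans hS

theorem sl_two_cases {F : Type} [Field F] [Fintype F] [CharP F 2] (hF : 4 ≤ Fintype.card F)
    (h : AllPrimePow (Matrix.SpecialLinearGroup (Fin 2) F)) :
    Fintype.card F = 4 ∨ Fintype.card F = 8 := by
  obtain ⟨n, -, hn⟩ := FiniteField.card F 2
  obtain ⟨a, ha⟩ := CIT.exists_orderOf_sub_one (F := F)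
  obtain ⟨b, hb⟩ := CIT.exists_orderOf_add_one (F := F)
  have h1 := isPrimePow_orderOf h ha (by omega)
  have h2 := isPrimePow_orderOf h hb (by omega)
  rw [hn] at h1 h2
  have hn2 : 2 ≤ (n : ℕ) := by
    by_contra hlt
    have : (n : ℕ) = 1 := by have := n.pos; omega
    rw [hn, this] at hF
    norm_num at hF
  rcases Nat.even_or_odd (n : ℕ) with he | ho
  · left; rw [hn, of_isPrimePow_sub_one he (by omega) h1]; norm_num
  · right
    rcases of_isPrimePow_add_one ho h2 with e | e
    · omega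
    · rw [hn, e]; norm_num

theorem psl_two_cases {F : Type} [Field F] [Fintype F] (hF : 7 ≤ Fintype.card F)
    (hp : (Fintype.card F).Prime) {k : ℕ}
    (hk : Fintype.card F = 2 ^ k + 1 ∨ Fintype.card F + 1 = 2 ^ k)
    (h : AllPrimePow (Matrix.ProjectiveSpecialLinearGroup (Fin 2) F)) :
    Fintype.card F = 7 ∨ Fintype.card F = 17 := by
  have hodd : Fintype.card F % 2 = 1 := (hp.eq_two_or_odd).resolve_left (by omega)
  have h2 : (2 : F) ≠ 0 := SL2.two_ne_zero_iff_odd.2 (Nat.odd_iff.2 hodd)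
  set q := Fintype.card F with hq
  obtain ⟨a, ha⟩ := CIT.exists_orderOf_sub_one (F := F)
  obtain ⟨b, hb⟩ := CIT.exists_orderOf_add_one (F := F)
  obtain ⟨x, hx⟩ := CIT.exists_orderOf_psl_of_two_mul h2 (m := (q - 1) / 2) (by omega) (g := a) (by omega)
  obtain ⟨y, hy⟩ := CIT.exists_orderOf_psl_of_two_mul h2 (m := (q + 1) / 2) (by omega) (g := b) (by omega)
  have h1 := isPrimePow_orderOf h hx (by omega)
  have h1' := isPrimePow_orderOf h hy (by omega)
  obtain ⟨j, rfl⟩ : ∃ j, k = j + 1 := Nat.exists_eq_add_of_le' (by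
    rcases k with _ | k
    · simp at hk; omega
    · omega)
  have hj : 2 ≤ j := by
    by_contra hlt
    rcases (show j = 0 ∨ j = 1 by omega) with rfl | rfl <;> norm_num at hk <;> omega
  rcases hk with hk | hk
  · right
    have he : (q + 1) / 2 = 2 ^ j + 1 := by rw [pow_succ] at hk; omega
    rw [he] at h1'
    rcases Nat.even_or_odd j with hev | hod
    · exfalso
      -- `k` odd and `3 ∣ 2^k + 1`
      obtain ⟨i, rfl⟩ := hev
      have h3 : 3 ∣ q := by
        rw [hk, Nat.dvd_iff_mod_eq_zero, pow_succ, ← two_mul, pow_mul, Nat.add_mod, Nat.mul_mod,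
          Nat.pow_mod]
        simp
      have := (Nat.prime_dvd_prime_iff_eq Nat.prime_three hp).1 h3
      omega
    · rcases of_isPrimePow_add_one hod h1' with e | e
      · omega
      · rw [hk, e]; norm_num
  · left
    have he : (q - 1) / 2 = 2 ^ j - 1 := by rw [pow_succ] at hk; omega
    rw [he] at h1
    rcases Nat.even_or_odd j with hev | hod
    · have e := of_isPrimePow_sub_one hev (by omega) h1
      rw [e] at hk
      norm_num at hk
      omega
    · exfalso
      have h3 : 3 ∣ q := by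
        have h4 := PrimeGraphPSLTwo.three_dvd_of_even (n := j + 1) hod.add_one
        rwa [← hk, Nat.add_sub_cancel] at h4
      have := (Nat.prime_dvd_prime_iff_eq Nat.prime_three hp).1 h3
      omega

/-- A Suzuki group with all elements of prime power order is `Sz(8)` or `Sz(32)`. -/
theorem suzuki_cases {G : Type u} [Group G] (hS : Cfsg.Lie.IsoSuzuki G) (h : AllPrimePow G) :
    ∃ (F : Type) (_ : Field F) (_ : Fintype F),
      (Fintype.card F = 8 ∧ Nonempty (G ≃* ↥(Cfsg.Lie.Sz F 4))) ∨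
        (Fintype.card F = 32 ∧ Nonempty (G ≃* ↥(Cfsg.Lie.Sz F 8))) := by
  obtain ⟨F, _, _, m, hm, hF, ⟨e⟩⟩ := hS
  haveI : CharP F 2 := Suzuki.charP_two hF
  let e' : Suzuki.grp (Suzuki.theta F m) →* G :=
    (e.symm.toMonoidHom).comp ((Suzuki.lieSzEquiv hm hF).toMonoidHom.comp
      (MulEquiv.subgroupCongr (Suzuki.sz_eq (F := F) (m := m)).symm).toMonoidHom)
  have he' : Function.Injective e' :=
    e.symm.injective.comp ((Suzuki.lieSzEquiv hm hF).injective.comp (MulEquiv.injective _))
  obtain ⟨C, -, -, h1, h2, -⟩ := Suzuki.exists_kinds hm hF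
  have key : ∀ {D : Subgroup (Suzuki.grp (Suzuki.theta F m))} {k e : ℕ}, Suzuki.Kind D k e → IsPrimePow k := by
    intro D k e hD
    obtain ⟨g, hg⟩ := hD.cyclic.exists_generator
    have hk : orderOf (e' (g : Suzuki.grp (Suzuki.theta F m))) = k := by
      rw [orderOf_injective e' he', Subgroup.orderOf_coe, orderOf_eq_card_of_forall_mem_zpowers hg, hD.card]
    exact isPrimePow_orderOf h hk hD.gt_one
  have hm2 := suzuki_param (key h1) (key h2)
  refine ⟨F, inferInstance, inferInstance, ?_⟩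
  obtain rfl | rfl : m = 1 ∨ m = 2 := by omega
  · exact Or.inl ⟨by rw [hF]; norm_num, ⟨e⟩⟩
  · exact Or.inr ⟨by rw [hF]; norm_num, ⟨e⟩⟩

theorem card_primeFactors_sl_two {F : Type} [Field F] [Fintype F] [CharP F 2]
    (hF : Fintype.card F = 4 ∨ Fintype.card F = 8) :
    (Nat.card (Matrix.SpecialLinearGroup (Fin 2) F)).primeFactors.card ≤ 3 := by
  rw [Classical.Linear.card_sl_two]
  rcases hF with e | e <;> rw [e]
  · refine card_le_of_primes {2, 3, 5} (by decide) fun p hp hd => ?_
    rw [show 4 * (4 ^ 2 - 1) = 2 * 2 * 3 * 5 by norm_num] at hd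
    have := hp.two_le
    simp only [hp.dvd_mul, Nat.prime_dvd_prime_iff_eq hp Nat.prime_two,
      Nat.prime_dvd_prime_iff_eq hp Nat.prime_three, Nat.prime_dvd_prime_iff_eq hp Nat.prime_five] at hd
    simp only [Finset.mem_insert, Finset.mem_singleton]; omega
  · refine card_le_of_primes {2, 3, 7} (by decide) fun p hp hd => ?_
    rw [show 8 * (8 ^ 2 - 1) = 2 * 2 * 2 * 3 * 3 * 7 by norm_num] at hd
    simp only [hp.dvd_mul, Nat.prime_dvd_prime_iff_eq hp Nat.prime_two,
      Nat.prime_dvd_prime_iff_eq hp Nat.prime_three,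
      Nat.prime_dvd_prime_iff_eq hp (by norm_num : Nat.Prime 7)] at hd
    simp only [Finset.mem_insert, Finset.mem_singleton]; omega

theorem card_primeFactors_psl_two {F : Type} [Field F] [Fintype F]
    (hF : Fintype.card F = 7 ∨ Fintype.card F = 9 ∨ Fintype.card F = 17) :
    (Nat.card (Matrix.ProjectiveSpecialLinearGroup (Fin 2) F)).primeFactors.card ≤ 3 := by
  have h := Classical.Linear.card_psl_two (F := F)
  rcases hF with e | e | e <;> rw [e] at h <;> norm_num at h
  · rw [show Nat.card (Matrix.ProjectiveSpecialLinearGroup (Fin 2) F) = 2 * 2 * 2 * 3 * 7 by omega]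
    refine card_le_of_primes {2, 3, 7} (by decide) fun p hp hd => ?_
    simp only [hp.dvd_mul, Nat.prime_dvd_prime_iff_eq hp Nat.prime_two,
      Nat.prime_dvd_prime_iff_eq hp Nat.prime_three,
      Nat.prime_dvd_prime_iff_eq hp (by norm_num : Nat.Prime 7)] at hd
    simp only [Finset.mem_insert, Finset.mem_singleton]; omega
  · rw [show Nat.card (Matrix.ProjectiveSpecialLinearGroup (Fin 2) F) = 2 * 2 * 2 * 3 * 3 * 5 by omega]
    refine card_le_of_primes {2, 3, 5} (by decide) fun p hp hd => ?_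
    simp only [hp.dvd_mul, Nat.prime_dvd_prime_iff_eq hp Nat.prime_two,
      Nat.prime_dvd_prime_iff_eq hp Nat.prime_three, Nat.prime_dvd_prime_iff_eq hp Nat.prime_five] at hd
    simp only [Finset.mem_insert, Finset.mem_singleton]; omega
  · rw [show Nat.card (Matrix.ProjectiveSpecialLinearGroup (Fin 2) F) = 2 * 2 * 2 * 2 * 3 * 3 * 17 by omega]
    refine card_le_of_primes {2, 3, 17} (by decide) fun p hp hd => ?_
    simp only [hp.dvd_mul, Nat.prime_dvd_prime_iff_eq hp Nat.prime_two,
      Nat.prime_dvd_prime_iff_eq hp Nat.prime_three,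
      Nat.prime_dvd_prime_iff_eq hp (by norm_num : Nat.Prime 17)] at hd
    simp only [Finset.mem_insert, Finset.mem_singleton]; omega

theorem card_primeFactors_suzuki {G : Type u} [Group G] {F : Type} [Field F] [Fintype F] {m : ℕ}
    (hm : m = 1 ∨ m = 2) (hF : Fintype.card F = 2 ^ (2 * m + 1))
    (e : G ≃* ↥(Cfsg.Lie.Sz F (2 ^ (m + 1)))) : (Nat.card G).primeFactors.card ≤ 4 := by
  haveI : CharP F 2 := Suzuki.charP_two hF
  rw [Nat.card_congr ((e.trans (Suzuki.lieSzEquiv (by omega) hF).symm).trans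
    (MulEquiv.subgroupCongr (Suzuki.sz_eq (F := F) (m := m)))).toEquiv,
    CITThreePrime.card_model (by omega) hF]
  rcases hm with rfl | rfl
  · rw [show (2 ^ (2 * 1 + 1)) ^ 2 * ((2 ^ (2 * 1 + 1)) ^ 2 + 1) * (2 ^ (2 * 1 + 1) - 1) =
      2 ^ 6 * (5 * 13) * 7 by norm_num]
    refine card_le_of_primes {2, 5, 7, 13} (by decide) fun p hp hd => ?_
    simp only [hp.dvd_mul, Nat.prime_dvd_prime_iff_eq hp Nat.prime_five,
      Nat.prime_dvd_prime_iff_eq hp (by norm_num : Nat.Prime 13),
      Nat.prime_dvd_prime_iff_eq hp (by norm_num : Nat.Prime 7)] at hd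
    simp only [Finset.mem_insert, Finset.mem_singleton]
    rcases hd with (hd | hd | hd) | hd
    · exact Or.inl ((Nat.prime_dvd_prime_iff_eq hp Nat.prime_two).1 (hp.dvd_of_dvd_pow hd))
    all_goals omega
  · rw [show (2 ^ (2 * 2 + 1)) ^ 2 * ((2 ^ (2 * 2 + 1)) ^ 2 + 1) * (2 ^ (2 * 2 + 1) - 1) =
      2 ^ 10 * (5 * 5 * 41) * 31 by norm_num]
    refine card_le_of_primes {2, 5, 31, 41} (by decide) fun p hp hd => ?_
    simp only [hp.dvd_mul, Nat.prime_dvd_prime_iff_eq hp Nat.prime_five,
      Nat.prime_dvd_prime_iff_eq hp (by norm_num : Nat.Prime 41),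
      Nat.prime_dvd_prime_iff_eq hp (by norm_num : Nat.Prime 31)] at hd
    simp only [Finset.mem_insert, Finset.mem_singleton]
    rcases hd with (hd | (hd | hd) | hd) | hd
    · exact Or.inl ((Nat.prime_dvd_prime_iff_eq hp Nat.prime_two).1 (hp.dvd_of_dvd_pow hd))
    all_goals omega

theorem card_primeFactors_psl_three_four {F : Type} [Field F] [Fintype F] (hF : Fintype.card F = 4) :
    (Nat.card (Matrix.ProjectiveSpecialLinearGroup (Fin 3) F)).primeFactors.card ≤ 4 := by
  rw [CfsgLib.PSL34.card_PSL hF, show (20160 : ℕ) = 2 ^ 6 * (3 * 3) * 5 * 7 by norm_num]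
  refine card_le_of_primes {2, 3, 5, 7} (by decide) fun p hp hd => ?_
  simp only [hp.dvd_mul, Nat.prime_dvd_prime_iff_eq hp Nat.prime_three,
    Nat.prime_dvd_prime_iff_eq hp Nat.prime_five,
    Nat.prime_dvd_prime_iff_eq hp (by norm_num : Nat.Prime 7)] at hd
  simp only [Finset.mem_insert, Finset.mem_singleton]
  rcases hd with ((hd | hd) | hd) | hd
  · exact Or.inl ((Nat.prime_dvd_prime_iff_eq hp Nat.prime_two).1 (hp.dvd_of_dvd_pow hd))
  all_goals omega

end CfsgLib.EPPO
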