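import Cfsg.Agent.EPPO.Types
import Cfsg.Agent.EPPO.Quot34
import Cfsg.Agent.PrimeGraph.ThreePrimes
import Cfsg.Agent.CITThreePrime.Classify
import Cfsg.Agent.S0205
import Cfsg.Agent.SmallIso.PSLTwo
import Cfsg.Agent.Dickson.PSL

/-!
Groups with all elements of prime power order, given the classification of the groups with 2-group
involution centralisers.
-/

set_option autoImplicit false

namespace CfsgLib.EPPO

open CfsgLib.CITThreePrime

universe u

/-- The list of simple groups with 2-group involution centralisers. -/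
def ListedCIT (G : Type u) [Group G] : Prop :=
  (∃ (F : Type) (_ : Field F) (_ : Fintype F) (_ : CharP F 2),
      4 ≤ Fintype.card F ∧ Nonempty (G ≃* Matrix.SpecialLinearGroup (Fin 2) F)) ∨
    Cfsg.Lie.IsoSuzuki G ∨
    (∃ (F : Type) (_ : Field F) (_ : Fintype F), 7 ≤ Fintype.card F ∧
      (((Fintype.card F).Prime ∧ ∃ k : ℕ, Fintype.card F = 2 ^ k + 1 ∨ Fintype.card F + 1 = 2 ^ k) ∨
        Fintype.card F = 9) ∧ Nonempty (G ≃* Matrix.ProjectiveSpecialLinearGroup (Fin 2) F)) ∨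
    (∃ (F : Type) (_ : Field F) (_ : Fintype F),
      Fintype.card F = 4 ∧ Nonempty (G ≃* Matrix.ProjectiveSpecialLinearGroup (Fin 3) F))

variable {G : Type u} [Group G] [Finite G]

theorem AllPrimePow.invCentTwo (h : AllPrimePow G) : InvCentTwo G := by
  intro t ht
  rw [IsPGroup.iff_orderOf]
  rintro ⟨c, hc⟩
  rw [Subgroup.orderOf_mk]
  obtain ⟨i, d, hd, hcd⟩ := Nat.exists_eq_two_pow_mul_odd (orderOf_pos c).ne'
  rcases eq_or_ne d 1 with rfl | hd1
  · exact ⟨i, by rw [hcd, mul_one]⟩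
  obtain ⟨r, hr, hrd⟩ := Nat.exists_prime_and_dvd hd1
  have hr2 : r ≠ 2 := fun e2 => Nat.not_even_iff_odd.2 hd (even_iff_two_dvd.2 (e2 ▸ hrd))
  exfalso
  have hy : orderOf (c ^ (orderOf c / r)) = r :=
    orderOf_pow_orderOf_div (orderOf_pos c).ne' (hcd ▸ hrd.mul_left _)
  have h2r : orderOf (t * c ^ (orderOf c / r)) = 2 * r := by
    rw [Commute.orderOf_mul_eq_mul_orderOf_of_coprime
      ((show Commute t c from (Subgroup.mem_centralizer_singleton_iff.1 hc).symm).pow_right _)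
      (by rw [ht, hy]; exact (Nat.coprime_primes Nat.prime_two hr).2 hr2.symm), ht, hy]
  obtain ⟨a, -, ha⟩ := eq_prime_pow_of_dvd Nat.prime_two
    (isPrimePow_orderOf h h2r (by have := hr.two_le; omega)) (dvd_mul_right 2 r)
  exact hr2 ((Nat.prime_dvd_prime_iff_eq hr Nat.prime_two).1 (hr.dvd_of_dvd_pow (ha ▸ dvd_mul_left r 2)))

theorem AllPrimePow.quotient (h : AllPrimePow G) (N : Subgroup G) [N.Normal] :
    AllPrimePow (G ⧸ N) := by
  intro g hg
  obtain ⟨x, rfl⟩ := QuotientGroup.mk'_surjective N g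
  obtain ⟨p, a, hp, ha, he⟩ := (isPrimePow_nat_iff _).1 (h x fun e => hg (by rw [e, map_one]))
  obtain ⟨b, -, hb⟩ := (Nat.dvd_prime_pow hp).1 (he.symm ▸ orderOf_map_dvd (QuotientGroup.mk' N) x)
  refine (isPrimePow_nat_iff _).2 ⟨p, b, hp, ?_, hb.symm⟩
  refine Nat.pos_of_ne_zero fun e => hg (orderOf_eq_one_iff.1 ?_)
  rw [hb, e, pow_zero]

/-- A solvable group with all elements of prime power order has at most two prime divisors. -/
theorem AllPrimePow.card_le_two [Group.IsSolvable G] (h : AllPrimePow G) :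
    (Nat.card G).primeFactors.card ≤ 2 := by
  by_contra hlt
  obtain ⟨p, hp, q, hq, r, hr, hpq, hpr, hqr⟩ := Finset.two_lt_card.1 (not_le.1 hlt)
  rw [Nat.mem_primeFactors] at hp hq hr
  have key : ∀ a b : ℕ, a.Prime → b.Prime → a ≠ b → ∀ x : G, orderOf x ≠ a * b := by
    intro a b ha hb hab x hx
    obtain ⟨i, -, hi⟩ := eq_prime_pow_of_dvd ha
      (isPrimePow_orderOf h hx (Nat.one_lt_mul_iff.2 ⟨ha.pos, hb.pos, Or.inl ha.one_lt⟩))
      (dvd_mul_right a b)
    exact hab ((Nat.prime_dvd_prime_iff_eq hb ha).1 (hb.dvd_of_dvd_pow (hi ▸ dvd_mul_left b a))).symm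
  obtain ⟨x, hx | hx | hx⟩ := PrimeGraph.exists_adjacent_of_isSolvable hp.1 hq.1 hr.1 hpq hpr hqr
    hp.2.1 hq.2.1 hr.2.1
  · exact key p q hp.1 hq.1 hpq x hx
  · exact key p r hp.1 hr.1 hpr x hx
  · exact key q r hq.1 hr.1 hqr x hx

/-- The listed simple groups with all elements of prime power order. -/
theorem AllPrimePow.simple_cases (h : AllPrimePow G) (hl : ListedCIT G) :
    (∃ (F : Type) (_ : Field F) (_ : Fintype F) (_ : CharP F 2),
      (Fintype.card F = 4 ∨ Fintype.card F = 8) ∧ Nonempty (G ≃* Matrix.SpecialLinearGroup (Fin 2) F)) ∨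
    (∃ (F : Type) (_ : Field F) (_ : Fintype F), (Fintype.card F = 7 ∨ Fintype.card F = 9 ∨ Fintype.card F = 17) ∧
      Nonempty (G ≃* Matrix.ProjectiveSpecialLinearGroup (Fin 2) F)) ∨
    (∃ (F : Type) (_ : Field F) (_ : Fintype F), Fintype.card F = 4 ∧
      Nonempty (G ≃* Matrix.ProjectiveSpecialLinearGroup (Fin 3) F)) ∨
    (∃ (F : Type) (_ : Field F) (_ : Fintype F),
      (Fintype.card F = 8 ∧ Nonempty (G ≃* ↥(Cfsg.Lie.Sz F 4))) ∨
        (Fintype.card F = 32 ∧ Nonempty (G ≃* ↥(Cfsg.Lie.Sz F 8)))) := by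
  rcases hl with ⟨F, _, _, _, hF, ⟨e⟩⟩ | hS | ⟨F, _, _, hF, hk, ⟨e⟩⟩ | h34
  · exact Or.inl ⟨F, inferInstance, inferInstance, inferInstance,
      sl_two_cases hF (h.of_injective e.symm.toMonoidHom e.symm.injective), ⟨e⟩⟩
  · exact Or.inr (Or.inr (Or.inr (suzuki_cases hS h)))
  · refine Or.inr (Or.inl ⟨F, inferInstance, inferInstance, ?_, ⟨e⟩⟩)
    rcases hk with ⟨hp, k, hk⟩ | h9
    · rcases psl_two_cases hF hp hk (h.of_injective e.symm.toMonoidHom e.symm.injective) with e7 | e17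
      · exact Or.inl e7
      · exact Or.inr (Or.inr e17)
    · exact Or.inr (Or.inl h9)
  · exact Or.inr (Or.inr (Or.inl h34))

/-- The classification of the groups with 2-group involution centralisers and trivial `O₂`. -/
def ClassifyCIT : Prop :=
  ∀ (H : Type u) [Group H] [Finite H], InvCentTwo H → Cfsg.pCore 2 H = ⊥ → ¬ Group.IsSolvable H →
    (IsSimpleGroup H ∧ ListedCIT H) ∨
      ∃ N : Subgroup H, N.Normal ∧ N.index = 2 ∧ ∃ (F : Type) (_ : Field F) (_ : Fintype F),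
        Fintype.card F = 9 ∧ Nonempty (N ≃* Matrix.ProjectiveSpecialLinearGroup (Fin 2) F)

/-- At most four primes, and the groups with four. -/
theorem AllPrimePow.four_primes (h : AllPrimePow G) (hc : ClassifyCIT.{u}) :
    (Nat.card G).primeFactors.card ≤ 4 ∧
    ((Nat.card G).primeFactors.card = 4 →
      (∃ (F : Type) (_ : Field F) (_ : Fintype F), Fintype.card F = 4 ∧
        Nonempty (G ≃* Matrix.ProjectiveSpecialLinearGroup (Fin 3) F)) ∨
      (∃ (N : Subgroup G) (_ : N.Normal), IsPGroup 2 ↥N ∧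
        ∃ (F : Type) (_ : Field F) (_ : Fintype F),
          (Fintype.card F = 8 ∧ Nonempty (G ⧸ N ≃* ↥(Cfsg.Lie.Sz F 4))) ∨
          (Fintype.card F = 32 ∧ Nonempty (G ⧸ N ≃* ↥(Cfsg.Lie.Sz F 8))))) := by
  classical
  haveI : Fact (Nat.Prime 2) := ⟨Nat.prime_two⟩
  by_cases hsol : Group.IsSolvable G
  · have := h.card_le_two
    exact ⟨by omega, fun h4 => by omega⟩
  set O := Cfsg.pCore 2 G with hOdef
  have hOp : IsPGroup 2 O := Constrained.isPGroup_pCore
  have hns : ¬ Group.IsSolvable (G ⧸ O) := fun hs => by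
    haveI := hs
    haveI := hOp.isNilpotent
    exact hsol (Group.isSolvable_of_ker_le_range O.subtype (QuotientGroup.mk' O)
      (by rw [QuotientGroup.ker_mk', Subgroup.range_subtype]))
  have h2 : 2 ∣ Nat.card (G ⧸ O) := by
    rw [← even_iff_two_dvd, ← Nat.not_odd_iff_even]
    exact fun hodd => hns (Cfsg.Agent.S0205.result hodd)
  have hsame : (Nat.card G).primeFactors = (Nat.card (G ⧸ O)).primeFactors := by
    ext p
    rw [Nat.mem_primeFactors_of_ne_zero Nat.card_pos.ne', Nat.mem_primeFactors_of_ne_zero Nat.card_pos.ne']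
    refine ⟨fun ⟨hp, hd⟩ => ⟨hp, ?_⟩, fun ⟨hp, hd⟩ => ⟨hp, hd.trans (Subgroup.card_quotient_dvd_card _)⟩⟩
    rw [Subgroup.card_eq_card_quotient_mul_card_subgroup O] at hd
    refine (hp.dvd_mul.1 hd).elim id fun hd' => ?_
    obtain ⟨i, hi⟩ := IsPGroup.iff_card.1 hOp
    rw [(Nat.prime_dvd_prime_iff_eq hp Nat.prime_two).1 (hp.dvd_of_dvd_pow (hi ▸ hd'))]
    exact h2
  rw [hsame]
  have hQ := h.quotient O
  rcases hc (G ⧸ O) (h.invCentTwo.of_surjective (QuotientGroup.mk' O) (QuotientGroup.mk'_surjective O)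
      (by rw [QuotientGroup.ker_mk']; exact hOp)) Constrained.pCore_quotient_pCore hns with
    ⟨-, hl⟩ | ⟨N, -, hN, F, _, _, hF, ⟨e⟩⟩
  · rcases hQ.simple_cases hl with
      ⟨F, _, _, _, hF, ⟨e⟩⟩ | ⟨F, _, _, hF, ⟨e⟩⟩ | ⟨F, _, _, hF, ⟨e⟩⟩ | ⟨F, hFi, hFt, hSz⟩
    · have := card_primeFactors_sl_two hF
      rw [← Nat.card_congr e.toEquiv] at this
      exact ⟨by omega, fun h4 => by omega⟩
    · have := card_primeFactors_psl_two hF
      rw [← Nat.card_congr e.toEquiv] at this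
      exact ⟨by omega, fun h4 => by omega⟩
    · have := card_primeFactors_psl_three_four hF
      rw [← Nat.card_congr e.toEquiv] at this
      refine ⟨this, fun _ => Or.inl ⟨F, inferInstance, inferInstance, hF, ?_⟩⟩
      have hO := eq_bot_of_quotient_psl_three_four h.invCentTwo O hOp hF e
      exact ⟨((QuotientGroup.quotientMulEquivOfEq hO).trans QuotientGroup.quotientBot).symm.trans e⟩
    · have hle : (Nat.card (G ⧸ O)).primeFactors.card ≤ 4 := by
        rcases hSz with ⟨hF, ⟨e⟩⟩ | ⟨hF, ⟨e⟩⟩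
        · exact card_primeFactors_suzuki (m := 1) (Or.inl rfl) (by rw [hF]; norm_num) e
        · exact card_primeFactors_suzuki (m := 2) (Or.inr rfl) (by rw [hF]; norm_num) e
      exact ⟨hle, fun _ => Or.inr ⟨O, inferInstance, hOp, F, hFi, hFt, hSz⟩⟩
  · have hle := card_primeFactors_psl_two (F := F) (Or.inr (Or.inl hF))
    rw [← Nat.card_congr e.toEquiv] at hle
    have h3 : (Nat.card (G ⧸ O)).primeFactors.card ≤ 3 := by
      refine le_trans (Finset.card_le_card fun p hp => ?_) hle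
      rw [Nat.mem_primeFactors_of_ne_zero Nat.card_pos.ne'] at hp ⊢
      obtain ⟨hp, hd⟩ := hp
      rw [← Subgroup.card_mul_index N, hN] at hd
      refine ⟨hp, (hp.dvd_mul.1 hd).elim id fun h2' => ?_⟩
      rw [(Nat.prime_dvd_prime_iff_eq hp Nat.prime_two).1 h2']
      have hF9 := Classical.Linear.card_psl_two (F := F)
      rw [hF, ← Nat.card_congr e.toEquiv] at hF9
      norm_num at hF9
      omega
    exact ⟨by omega, fun h4 => by omega⟩

/-- The simple groups with all elements of prime power order. -/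
theorem AllPrimePow.simple_list [IsSimpleGroup G] (h : AllPrimePow G) (hl : ListedCIT G) :
    Nonempty (G ≃* alternatingGroup (Fin 6)) ∨
    (∃ (F : Type) (_ : Field F) (_ : Fintype F), Fintype.card F ∈ ({4, 7, 8, 17} : Finset ℕ) ∧
      Nonempty (G ≃* Matrix.ProjectiveSpecialLinearGroup (Fin 2) F)) ∨
    (∃ (F : Type) (_ : Field F) (_ : Fintype F), Fintype.card F = 4 ∧
      Nonempty (G ≃* Matrix.ProjectiveSpecialLinearGroup (Fin 3) F)) ∨
    (∃ (F : Type) (_ : Field F) (_ : Fintype F),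
      (Fintype.card F = 8 ∧ Nonempty (G ≃* ↥(Cfsg.Lie.Sz F 4))) ∨
        (Fintype.card F = 32 ∧ Nonempty (G ≃* ↥(Cfsg.Lie.Sz F 8)))) := by
  rcases h.simple_cases hl with ⟨F, _, _, _, hF, ⟨e⟩⟩ | ⟨F, _, _, hF, ⟨e⟩⟩ | h34 | hSz
  · obtain ⟨i⟩ := PrimeGraphPSLTwo.nonempty_sl_equiv_psl (F := F)
    refine Or.inr (Or.inl ⟨F, inferInstance, inferInstance, ?_, ⟨e.trans i⟩⟩)
    rcases hF with hF | hF <;> simp [hF]
  · rcases hF with hF | hF | hF
    · exact Or.inr (Or.inl ⟨F, inferInstance, inferInstance, by simp [hF], ⟨e⟩⟩)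
    · obtain ⟨i⟩ := CfsgLib.SmallIso.psl_two_card_nine (F := F) hF
      exact Or.inl ⟨e.trans i⟩
    · exact Or.inr (Or.inl ⟨F, inferInstance, inferInstance, by simp [hF], ⟨e⟩⟩)
  · exact Or.inr (Or.inr (Or.inl h34))
  · exact Or.inr (Or.inr (Or.inr hSz))

end CfsgLib.EPPO
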